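import Mathlib.RingTheory.WittVector.DiscreteValuationRing
import Mathlib.RingTheory.Length
import Mathlib.RingTheory.SimpleModule.Basic
import Mathlib.LinearAlgebra.FreeModule.PID
import Mathlib.LinearAlgebra.Dimension.Finrank
import Mathlib.RingTheory.Noetherian.Basic
import Mathlib.Tactic

/-!
Homomorphisms of modules with a semilinear `F` and an inverse-semilinear `V`.
-/

namespace Groth.Agent.DieudHomLib

section Semilinear

variable {W : Type*} [CommRing W] {σ : W →+* W} (hσ : Function.Bijective σ)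
variable {M : Type*} [AddCommGroup M] [Module W M] {FM VM : M →+ M}
variable {N : Type*} [AddCommGroup N] [Module W N] {FN VN : N →+ N}

/-- The range of an inverse-semilinear map is a submodule. -/
def rangeV (hσ : Function.Surjective σ) (hVM : ∀ (a : W) (m : M), VM (σ a • m) = a • VM m) :
    Submodule W M where
  carrier := Set.range VM
  add_mem' := by rintro _ _ ⟨a, rfl⟩ ⟨b, rfl⟩; exact ⟨a + b, map_add _ _ _⟩
  zero_mem' := ⟨0, map_zero _⟩
  smul_mem' := by
    rintro a _ ⟨m, rfl⟩
    exact ⟨σ a • m, hVM a m⟩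

theorem span_range_eq (hσ : Function.Surjective σ)
    (hVM : ∀ (a : W) (m : M), VM (σ a • m) = a • VM m) :
    Submodule.span W (Set.range VM) = rangeV hσ hVM :=
  Submodule.span_eq (rangeV hσ hVM)

include hσ in
theorem mem_of_mem_V
    (hVN : ∀ (a : W) (n : N), VN (σ a • n) = a • VN n)
    (hFN : ∀ (a : W) (n : N), FN (a • n) = σ a • FN n)
    (hVM : ∀ (a : W) (m : M), VM (σ a • m) = a • VM m)
    (p : W) (hFVN : ∀ n : N, FN (VN n) = p • n) (hVFN : ∀ n : N, VN (FN n) = p • n)
    (H₁ : Submodule W (M →ₗ[W] N))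
    (hF : ∀ h ∈ H₁, ∃ h' ∈ H₁, ∀ m : M, h' m = FN (h (VM m)))
    (hV : ∀ h ∈ H₁, ∃ h' ∈ H₁, ∀ m : M, h' (VM m) = VN (h m))
    (hmax : ∀ S : Submodule W (M →ₗ[W] N),
      (∀ h ∈ S, ∃ h' ∈ S, ∀ m : M, h' m = FN (h (VM m))) →
      (∀ h ∈ S, ∃ h' ∈ S, ∀ m : M, h' (VM m) = VN (h m)) → S ≤ H₁)
    (y x : M →ₗ[W] N) (hx : x ∈ H₁) (hxy : ∀ m : M, x (VM m) = VN (y m)) : y ∈ H₁ := by
  let S : Submodule W (M →ₗ[W] N) :=
    { carrier := {y | ∃ x ∈ H₁, ∀ m : M, x (VM m) = VN (y m)}
      add_mem' := by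
        rintro y₁ y₂ ⟨x₁, hx₁, h₁⟩ ⟨x₂, hx₂, h₂⟩
        exact ⟨x₁ + x₂, add_mem hx₁ hx₂, fun m => by simp [h₁, h₂]⟩
      zero_mem' := ⟨0, zero_mem _, fun m => by simp⟩
      smul_mem' := by
        rintro a y ⟨x, hx, h⟩
        obtain ⟨b, rfl⟩ := hσ.surjective a
        exact ⟨b • x, H₁.smul_mem _ hx, fun m => by simp [h, hVN]⟩ }
  refine hmax S ?_ ?_ (show y ∈ S from ⟨x, hx, hxy⟩)
  · rintro h ⟨x, hx, hh⟩
    obtain ⟨z, hz, hzx⟩ := hF x hx
    -- `F · h` is the map `m ↦ FN (h (VM m))`
    let h' : M →ₗ[W] N :=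
      { toFun := fun m => FN (h (VM m))
        map_add' := fun m m' => by simp
        map_smul' := fun a m => by
          obtain ⟨b, rfl⟩ := hσ.surjective a
          simp [hVM, hFN] }
    refine ⟨h', ⟨z, hz, fun m => ?_⟩, fun m => rfl⟩
    show z (VM m) = VN (FN (h (VM m)))
    rw [hzx, hh, hFVN, hVFN]
  · rintro h ⟨x, hx, hh⟩
    obtain ⟨z, hz, hzx⟩ := hV x hx
    exact ⟨x, ⟨z, hz, hzx⟩, hh⟩

include hσ in
theorem mem_range_V_iff (hVM : ∀ (a : W) (m : M), VM (σ a • m) = a • VM m)
    (hVN : ∀ (a : W) (n : N), VN (σ a • n) = a • VN n)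
    (hinj : Function.Injective VN) (h : M →ₗ[W] N) :
    (∀ m : M, h (VM m) ∈ Submodule.span W (Set.range VN)) ↔
      ∃ h' : M →ₗ[W] N, ∀ m : M, h (VM m) = VN (h' m) := by
  rw [span_range_eq hσ.surjective hVN]
  constructor
  · intro hh
    choose f hf using hh
    refine ⟨{ toFun := f, map_add' := fun m m' => hinj ?_, map_smul' := fun a m => hinj ?_ },
      fun m => (hf m).symm⟩
    · simp [hf]
    · obtain ⟨b, rfl⟩ := hσ.surjective a
      simp [hf, hVM, hVN]
  · rintro ⟨h', hh'⟩ m
    exact ⟨h' m, (hh' m).symm⟩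

include hσ in
theorem iterate_F_eq_zero_bounded [IsNoetherianRing W] (p : W)
    (hFM : ∀ (a : W) (m : M), FM (a • m) = σ a • FM m)
    (hVM : ∀ (a : W) (m : M), VM (σ a • m) = a • VM m)
    (hFV : ∀ m : M, FM (VM m) = p • m) (hVF : ∀ m : M, VM (FM m) = p • m)
    (hVinj : Function.Injective VM)
    (hsep : ∀ x : M, (∀ n : ℕ, ∃ y : M, x = (⇑VM)^[n] y) → x = 0)
    (hfin : Module.Finite W (M ⧸ Submodule.span W (Set.range VM))) :
    (∃ c : ℕ, ∀ x : M, (∃ n : ℕ, (⇑FM)^[n] x = 0) → (⇑FM)^[c] x = 0) ∧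
    (∀ x : M, (∀ n : ℕ, ∃ (m : ℕ) (y : M), (⇑VM)^[m] x = (⇑FM)^[n] y) → FM x = 0 → x = 0) := by
  have hcomm : Function.Commute (⇑FM) (⇑VM) := fun m => (hFV m).trans (hVF m).symm
  -- the kernel of the `n`-th iterate of `F`
  let K : ℕ → Submodule W M := fun n =>
    { carrier := {x | (⇑FM)^[n] x = 0}
      add_mem' := fun {x y} hx hy => by
        simp only [Set.mem_setOf_eq] at *
        rw [iterate_map_add, hx, hy, add_zero]
      zero_mem' := iterate_map_zero FM n
      smul_mem' := fun a x hx => by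
        have key : ∀ k (a : W), (⇑FM)^[k] (a • x) = (⇑σ)^[k] a • (⇑FM)^[k] x := by
          intro k
          induction k with
          | zero => simp
          | succ k ih =>
            intro a
            rw [Function.iterate_succ_apply', Function.iterate_succ_apply',
              Function.iterate_succ_apply', ih, hFM]
        simp only [Set.mem_setOf_eq] at *
        rw [key, hx, smul_zero] }
  have hK : ∀ n x, x ∈ K n ↔ (⇑FM)^[n] x = 0 := fun n x => Iff.rfl
  have hKmono : Monotone K := monotone_nat_of_le_succ fun n x hx => by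
    rw [hK] at *
    rw [Function.iterate_succ_apply', hx, map_zero]
  let P := Submodule.span W (Set.range VM)
  have hP : P = rangeV hσ.surjective hVM := span_range_eq hσ.surjective hVM
  have hnoeth : IsNoetherian W (M ⧸ P) := inferInstance
  obtain ⟨c, hc⟩ := monotone_stabilizes_iff_noetherian.mpr hnoeth
    ⟨fun n => (K n).map P.mkQ, fun a b h => Submodule.map_mono (hKmono h)⟩
  have hVn : ∀ n (y : M), (⇑FM)^[n] (VM y) = VM ((⇑FM)^[n] y) := fun n y =>
    (hcomm.iterate_left n).eq y
  have step : ∀ n, c ≤ n → ∀ (m : ℕ) (x : M), x ∈ K n →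
      ∃ y ∈ K c, ∃ z ∈ K n, x = y + (⇑VM)^[m] z := by
    intro n hn m
    induction m with
    | zero => exact fun x hx => ⟨0, zero_mem _, x, hx, by simp⟩
    | succ m ih =>
      intro x hx
      obtain ⟨y, hy, z, hz, rfl⟩ := ih x hx
      have hz' : P.mkQ z ∈ (K c).map P.mkQ := by
        have e : (K c).map P.mkQ = (K n).map P.mkQ := hc n hn
        rw [e]
        exact Submodule.mem_map_of_mem hz
      obtain ⟨u, hu, hzu⟩ := hz'
      have : z - u ∈ P := (Submodule.Quotient.eq P).mp hzu.symm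
      rw [hP] at this
      obtain ⟨w, hw⟩ := this
      have hwK : w ∈ K n := by
        have h0 : VM w ∈ K n := hw ▸ sub_mem hz (hKmono hn hu)
        rw [hK, hVn] at h0
        exact hVinj (h0.trans (map_zero VM).symm)
      refine ⟨y + (⇑VM)^[m] u, add_mem hy ?_, w, hwK, ?_⟩
      · rw [hK, (hcomm.iterate_iterate c m).eq u, (hK c u).mp hu, iterate_map_zero]
      · rw [Function.iterate_succ_apply, hw, iterate_map_sub]
        abel
  have main : ∀ x : M, (∃ n : ℕ, (⇑FM)^[n] x = 0) → (⇑FM)^[c] x = 0 := by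
    rintro x ⟨n, hn⟩
    refine hsep _ fun m => ?_
    obtain ⟨y, hy, z, -, rfl⟩ :=
      step (max n c) (le_max_right _ _) m x (hKmono (le_max_left _ _) ((hK n x).mpr hn))
    refine ⟨(⇑FM)^[c] z, ?_⟩
    rw [iterate_map_add, (hK c y).mp hy, zero_add, (hcomm.iterate_iterate c m).eq z]
  refine ⟨⟨c, main⟩, fun x hx hFx => ?_⟩
  obtain ⟨m, y, hy⟩ := hx c
  have hy1 : (⇑FM)^[c + 1] y = 0 := by
    rw [Function.iterate_succ_apply', ← hy, (hcomm.iterate_right m).eq x, hFx, iterate_map_zero]
  rw [main y ⟨_, hy1⟩, ← iterate_map_zero VM m] at hy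
  exact hVinj.iterate m hy

end Semilinear

section Length

variable {W : Type*} [CommRing W] [IsDomain W] [IsPrincipalIdealRing W]
variable {M : Type*} [AddCommGroup M] [Module W M] [Module.Free W M] [Module.Finite W M]
variable {N : Type*} [AddCommGroup N] [Module W N]

/-- Extension and length for a submodule `P` between `π • M` and `M`. -/
theorem extend_and_length {π : W} (hπ : Irreducible π) (P : Submodule W M)
    (hP : ∀ m : M, π • m ∈ P) (Q : Submodule W N) (hQ : ∀ n : N, π • n ∈ Q)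
    (r₂ s₁ : ℕ) (hr₂ : Module.length W (N ⧸ Q) = r₂)
    (hs₁ : (Module.finrank W M : ℕ∞) = Module.length W (M ⧸ P) + s₁) :
    (∀ g : P →ₗ[W] N ⧸ Q, (∀ m : M, g ⟨π • m, hP m⟩ = 0) →
      ∃ h : M →ₗ[W] N, ∀ x : P, Q.mkQ (h x) = g x) ∧
    Module.length W ((M →ₗ[W] N) ⧸ ⨅ x : P, Q.comap
        (LinearMap.applyₗ (x : M) : (M →ₗ[W] N) →ₗ[W] N)) = (r₂ * s₁ : ℕ) := by
  classical
  have hfinr : Module.finrank W P = Module.finrank W M := by
    refine le_antisymm P.finrank_le ?_
    have hinj : Function.Injective ((LinearMap.lsmul W M π).codRestrict P hP) := fun a b h =>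
      smul_right_injective M hπ.ne_zero (congrArg Subtype.val h)
    exact LinearMap.finrank_le_finrank_of_injective hinj
  obtain ⟨b, a, ab, hab⟩ :=
    P.exists_smith_normal_form_of_rank_eq (Module.Free.chooseBasis W M) hfinr
  have hmem : ∀ x ∈ P, ∀ i, a i ∣ b.repr x i := by
    intro x hx i
    have e : x = ∑ j, ab.repr ⟨x, hx⟩ j • a j • b j := by
      have h1 := congrArg (Subtype.val) (ab.sum_repr ⟨x, hx⟩)
      simp only [Submodule.coe_sum, SetLike.val_smul, hab] at h1
      exact h1.symm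
    refine ⟨ab.repr ⟨x, hx⟩ i, ?_⟩
    conv_lhs => rw [e]
    simp [Finsupp.single_apply, mul_comm]
  have hunit : ∀ i, IsUnit (a i) → b i ∈ P := by
    intro i hi
    obtain ⟨u, hu⟩ := hi
    have h : a i • b i ∈ P := hab i ▸ (ab i).2
    rw [← hu] at h
    simpa [smul_smul] using P.smul_mem (↑u⁻¹ : W) h
  have hnonunit : ∀ i, ¬IsUnit (a i) → π ∣ a i := by
    intro i hi
    have h := hmem _ (hP (b i)) i
    simp at h
    obtain ⟨u, hu⟩ := h
    rcases hπ.isUnit_or_isUnit hu with h | h
    · exact absurd h hi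
    · exact h.dvd_mul_right.mp (hu ▸ dvd_refl π)
  let I0 := {i // IsUnit (a i)}
  let I1 := {i // ¬IsUnit (a i)}
  -- the quotient `M ⧸ P`
  have hspan : ∀ x : M, x ∈ P ↔ ∀ i : I1, π ∣ b.repr x i.1 := by
    intro x
    constructor
    · exact fun hx i => (hnonunit i.1 i.2).trans (hmem x hx i.1)
    · intro hx
      rw [← b.sum_repr x]
      refine sum_mem fun i _ => ?_
      by_cases hi : IsUnit (a i)
      · exact P.smul_mem _ (hunit i hi)
      · obtain ⟨u, hu⟩ := hx ⟨i, hi⟩
        rw [show b.repr x i = π * u from hu, ← smul_smul]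
        exact hP _
  have hlenP : Module.length W (M ⧸ P) = Fintype.card I1 := by
    let f : M →ₗ[W] (I1 → W ⧸ Ideal.span {π}) :=
      LinearMap.pi fun i => (Submodule.mkQ (Ideal.span {π})).comp (b.coord i.1)
    have hker : LinearMap.ker f = P := by
      ext x
      simp [f, hspan, funext_iff, Ideal.Quotient.eq_zero_iff_mem, Ideal.mem_span_singleton]
    have hsurj : Function.Surjective f := by
      intro q
      choose c hc using fun i => Submodule.mkQ_surjective (Ideal.span {π}) (q i)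
      refine ⟨b.equivFun.symm fun j => if hj : ¬IsUnit (a j) then c ⟨j, hj⟩ else 0,
        funext fun i => ?_⟩
      simp only [f, LinearMap.pi_apply, LinearMap.comp_apply, Module.Basis.coord_apply]
      rw [← Module.Basis.equivFun_apply, LinearEquiv.apply_symm_apply, dif_pos i.2, hc]
    rw [← hker, (LinearMap.quotKerEquivOfSurjective f hsurj).length_eq, Module.length_pi]
    have : IsSimpleModule W (W ⧸ Ideal.span {π}) := isSimpleModule_iff_isCoatom.mpr
      (Ideal.isMaximal_def.mp (PrincipalIdealRing.isMaximal_of_irreducible hπ))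
    simp
  have hs : s₁ = Fintype.card I0 := by
    have h2 : Fintype.card I0 + Fintype.card I1 = Module.finrank W M := by
      rw [Module.finrank_eq_card_basis b, Fintype.card_subtype_compl]
      have := Fintype.card_subtype_le (fun i => IsUnit (a i))
      simp only [I0]
      omega
    rw [hlenP, ← h2] at hs₁
    norm_cast at hs₁
    omega
  constructor
  · intro g hg
    choose n hn using fun i : I0 => Submodule.mkQ_surjective Q (g ⟨b i.1, hunit i.1 i.2⟩)
    let h : M →ₗ[W] N := b.constr W fun i => if hi : IsUnit (a i) then n ⟨i, hi⟩ else 0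
    refine ⟨h, fun x => ?_⟩
    have hx := (hspan x).mp x.2
    choose u hu using hx
    let z : P := ∑ i : I0, b.repr (x : M) i.1 • ⟨b i.1, hunit i.1 i.2⟩
    let y : M := ∑ i : I1, u i • b i.1
    have e : x = z + ⟨π • y, hP y⟩ := by
      apply Subtype.ext
      have hsplit := Fintype.sum_subtype_add_sum_subtype (fun i => IsUnit (a i))
        (fun i => b.repr (x : M) i • b i)
      rw [b.sum_repr] at hsplit
      simp [z, y, Finset.smul_sum, smul_smul, ← hu]
      exact hsplit.symm
    conv_rhs => rw [e, map_add, hg, add_zero]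
    have hy : Q.mkQ (h (π • y)) = 0 := by
      rw [map_smul, Submodule.mkQ_apply, Submodule.Quotient.mk_eq_zero]
      exact hQ _
    conv_lhs => rw [e, Submodule.coe_add, map_add, map_add, hy, add_zero]
    simp only [z, Submodule.coe_sum, SetLike.val_smul, map_sum, map_smul]
    refine Finset.sum_congr rfl fun i _ => ?_
    rw [← hn i]
    simp only [h, Module.Basis.constr_basis, dif_pos i.2]
    rfl
  · let f : (M →ₗ[W] N) →ₗ[W] (I0 → N ⧸ Q) :=
      LinearMap.pi fun i => Q.mkQ.comp (LinearMap.applyₗ (b i.1))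
    have hker : (⨅ x : P, Q.comap
        (LinearMap.applyₗ (x : M) : (M →ₗ[W] N) →ₗ[W] N)) = LinearMap.ker f := by
      ext h
      simp only [Submodule.mem_iInf, Submodule.mem_comap, LinearMap.mem_ker, funext_iff,
        Pi.zero_apply, f, LinearMap.pi_apply, LinearMap.comp_apply, Submodule.mkQ_apply,
        Submodule.Quotient.mk_eq_zero, LinearMap.applyₗ_apply_apply]
      constructor
      · exact fun hh i => hh ⟨b i.1, hunit i.1 i.2⟩
      · intro hh x
        rw [← b.sum_repr (x : M), map_sum]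
        refine sum_mem fun i _ => ?_
        rw [map_smul]
        by_cases hi : IsUnit (a i)
        · exact Q.smul_mem _ (hh ⟨i, hi⟩)
        · obtain ⟨u, hu⟩ := (hspan x).mp x.2 ⟨i, hi⟩
          rw [show b.repr (x : M) i = π * u from hu, ← smul_smul]
          exact hQ _
    have hsurj : Function.Surjective f := by
      intro q
      choose n hn using fun i => Submodule.mkQ_surjective Q (q i)
      refine ⟨b.constr W fun i => if hi : IsUnit (a i) then n ⟨i, hi⟩ else 0, funext fun i => ?_⟩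
      simp only [f, LinearMap.pi_apply, LinearMap.comp_apply, LinearMap.applyₗ_apply_apply,
        Module.Basis.constr_basis, dif_pos i.2, hn]
      rfl
    rw [hker, (LinearMap.quotKerEquivOfSurjective f hsurj).length_eq, Module.length_pi, hr₂, hs]
    simp [mul_comm]

end Length

theorem hom_quotient {W : Type*} [CommRing W] [IsDomain W] [IsPrincipalIdealRing W]
    {σ : W →+* W} (hσ : Function.Bijective σ) {π : W} (hπ : Irreducible π)
    {M : Type*} [AddCommGroup M] [Module W M] [Module.Free W M] [Module.Finite W M]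
    {N : Type*} [AddCommGroup N] [Module W N] [Module.Free W N]
    {FM VM : M →+ M} {FN VN : N →+ N}
    (hVM : ∀ (a : W) (m : M), VM (σ a • m) = a • VM m) (hVFM : ∀ m : M, VM (FM m) = π • m)
    (hVN : ∀ (a : W) (n : N), VN (σ a • n) = a • VN n) (hFVN : ∀ n : N, FN (VN n) = π • n)
    (hVFN : ∀ n : N, VN (FN n) = π • n)
    (r₂ s₁ : ℕ) (hr₂ : Module.length W (N ⧸ Submodule.span W (Set.range VN)) = r₂)
    (hs₁ : (Module.finrank W M : ℕ∞) =
      Module.length W (M ⧸ Submodule.span W (Set.range VM)) + s₁) :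
    (∀ h : M →ₗ[W] N,
      (∀ m : M, h (VM m) ∈ Submodule.span W (Set.range VN)) ↔
        ∃ h' : M →ₗ[W] N, ∀ m : M, h (VM m) = VN (h' m)) ∧
    (∀ g : Submodule.span W (Set.range VM) →ₗ[W] N ⧸ Submodule.span W (Set.range VN),
      (∀ m : M, g ⟨VM (FM m), Submodule.subset_span ⟨FM m, rfl⟩⟩ = 0) →
      ∃ h : M →ₗ[W] N, ∀ x : Submodule.span W (Set.range VM),
        (Submodule.span W (Set.range VN)).mkQ (h x) = g x) ∧
    Module.length W ((M →ₗ[W] N) ⧸
      ⨅ m : M, (Submodule.span W (Set.range VN)).comap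
        (LinearMap.applyₗ (VM m) : (M →ₗ[W] N) →ₗ[W] N)) = (r₂ * s₁ : ℕ) := by
  have hP : ∀ m : M, π • m ∈ Submodule.span W (Set.range VM) := fun m =>
    Submodule.subset_span ⟨FM m, hVFM m⟩
  have hQ : ∀ n : N, π • n ∈ Submodule.span W (Set.range VN) := fun n =>
    Submodule.subset_span ⟨FN n, hVFN n⟩
  have hinj : Function.Injective VN := fun x y h => by
    have := congrArg FN h
    rw [hFVN, hFVN] at this
    exact smul_right_injective N hπ.ne_zero this
  obtain ⟨hext, hlen⟩ := extend_and_length hπ _ hP _ hQ r₂ s₁ hr₂ hs₁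
  refine ⟨mem_range_V_iff hσ hVM hVN hinj, fun g hg => hext g fun m => ?_, ?_⟩
  · rw [← hg m]
    exact congrArg g (Subtype.ext (hVFM m).symm)
  · rw [← hlen]
    refine (Submodule.quotEquivOfEq _ _ ?_).length_eq
    refine le_antisymm (le_iInf fun x => ?_)
      (le_iInf fun m => iInf_le_of_le ⟨VM m, Submodule.subset_span ⟨m, rfl⟩⟩ le_rfl)
    obtain ⟨x, hx⟩ := x
    rw [span_range_eq hσ.surjective hVM] at hx
    obtain ⟨m, rfl⟩ := hx
    exact iInf_le _ m

end Groth.Agent.DieudHomLib
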